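import Mathlib
import Groth.Agent.DRingLib.AmplitudeBC

/-!
# Restriction and extension of scalars along a pushout square
-/

set_option autoImplicit false
set_option linter.all false

universe u

open CategoryTheory TensorProduct
open Groth.Agent

attribute [local instance] HasDerivedCategory.standard

noncomputable section

namespace TorLocLib

variable {P P' A A' : Type u} [CommRing P] [CommRing P'] [CommRing A] [CommRing A']
  (φ : P →+* A) (ι : P →+* P') (κ : A →+* A') (χ : P' →+* A') (w : κ.comp φ = χ.comp ι)

/-- The square is a pushout. -/
def IsPushSq : Prop :=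
  letI := φ.toAlgebra
  letI := ι.toAlgebra
  letI := κ.toAlgebra
  letI := χ.toAlgebra
  letI := (κ.comp φ).toAlgebra
  haveI : IsScalarTower P A A' := IsScalarTower.of_algebraMap_eq fun _ => rfl
  haveI : IsScalarTower P P' A' := IsScalarTower.of_algebraMap_eq fun x => RingHom.congr_fun w x
  Algebra.IsPushout P P' A A'

/-- Restricting commutes with the base change in a pushout square. -/
def sqIso (h : IsPushSq φ ι κ χ w) :
    ModuleCat.restrictScalars.{u} φ ⋙ ModuleCat.extendScalars.{u, u, u} ι ≅
      ModuleCat.extendScalars.{u, u, u} κ ⋙ ModuleCat.restrictScalars.{u} χ :=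
  letI := φ.toAlgebra
  letI := ι.toAlgebra
  letI := κ.toAlgebra
  letI := χ.toAlgebra
  letI := (κ.comp φ).toAlgebra
  haveI : IsScalarTower P A A' := IsScalarTower.of_algebraMap_eq fun _ => rfl
  haveI : IsScalarTower P P' A' := IsScalarTower.of_algebraMap_eq fun x => RingHom.congr_fun w x
  haveI : Algebra.IsPushout P P' A A' := h
  NatIso.ofComponents (fun M =>
    letI : Module P M := Module.compHom M φ
    haveI : IsScalarTower P A M := IsScalarTower.of_algebraMap_smul fun _ _ => rfl
    let e := (Algebra.IsPushout.cancelBaseChange P P' A A' M).symm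
    let X : ModuleCat.{u} P' :=
      (ModuleCat.extendScalars.{u, u, u} ι).obj ((ModuleCat.restrictScalars.{u} φ).obj M)
    let Y : ModuleCat.{u} P' :=
      (ModuleCat.restrictScalars.{u} χ).obj ((ModuleCat.extendScalars.{u, u, u} κ).obj M)
    let e' : X ≃ₗ[P'] Y :=
      { toFun := fun x => e x
        invFun := fun y => e.symm y
        map_add' := fun x y => map_add e x y
        map_smul' := fun r x => (map_smul e r x).trans (algebraMap_smul A' r (e x)).symm
        left_inv := fun x => e.symm_apply_apply x
        right_inv := fun y => e.apply_symm_apply y }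
    e'.toModuleIso)
    (fun {M N} f => by
      letI : Module P M := Module.compHom M φ
      haveI : IsScalarTower P A M := IsScalarTower.of_algebraMap_smul fun _ _ => rfl
      letI : Module P N := Module.compHom N φ
      haveI : IsScalarTower P A N := IsScalarTower.of_algebraMap_smul fun _ _ => rfl
      let eM := (Algebra.IsPushout.cancelBaseChange P P' A A' M).symm
      let eN := (Algebra.IsPushout.cancelBaseChange P P' A A' N).symm
      let fP : M →ₗ[P] N := f.hom.restrictScalars P
      have key : ∀ z : P' ⊗[P] (M : Type u),
          eN (LinearMap.lTensor P' fP z) = LinearMap.lTensor A' f.hom (eM z) := by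
        intro z
        induction z using TensorProduct.induction_on with
        | zero => simp only [map_zero]
        | add x y hx hy => simp only [map_add, hx, hy]
        | tmul s m =>
          rw [LinearMap.lTensor_tmul, Algebra.IsPushout.cancelBaseChange_symm_tmul,
            Algebra.IsPushout.cancelBaseChange_symm_tmul, LinearMap.lTensor_tmul]
          rfl
      exact ModuleCat.hom_ext (LinearMap.ext fun x => key x))

/-- Restricting commutes with base change for complexes. -/
def sqCxIso (h : IsPushSq φ ι κ χ w) (Z : CochainComplex (ModuleCat.{u} A) ℤ) :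
    (DRingLib.extCx ι).obj ((DRing.restrictCx φ).obj Z) ≅
      (DRing.restrictCx χ).obj ((DRingLib.extCx κ).obj Z) :=
  HomologicalComplex.Hom.isoOfComponents (fun i => (sqIso φ ι κ χ w h).app (Z.X i))
    (fun i j _ => ((sqIso φ ι κ χ w h).hom.naturality (Z.d i j)).symm)

/-- Localisations at a submonoid and at its image form a pushout square. -/
theorem isPushSq_of_isLocalization (S : Submonoid P)
    (hι : letI := ι.toAlgebra; IsLocalization S P')
    (hκ : letI := κ.toAlgebra; IsLocalization (S.map φ) A') : IsPushSq φ ι κ χ w := by
  unfold IsPushSq
  letI := φ.toAlgebra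
  letI := ι.toAlgebra
  letI := κ.toAlgebra
  letI := χ.toAlgebra
  letI := (κ.comp φ).toAlgebra
  haveI : IsScalarTower P A A' := IsScalarTower.of_algebraMap_eq fun _ => rfl
  haveI : IsScalarTower P P' A' := IsScalarTower.of_algebraMap_eq fun x => RingHom.congr_fun w x
  haveI : IsLocalization S P' := hι
  haveI : IsLocalization (Algebra.algebraMapSubmonoid A S) A' := hκ
  exact (Algebra.isPushout_of_isLocalization S P' A A').symm

omit w

/-- Localisations at corresponding primes along a surjection form a pushout square. -/
theorem isPushSq_localization {P A : Type u} [CommRing P] [CommRing A] (φ : P →+* A)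
    (hφ : Function.Surjective φ) (q : Ideal A) [q.IsPrime] :
    IsPushSq φ (algebraMap P (Localization.AtPrime (q.comap φ)))
      (algebraMap A (Localization.AtPrime q)) (Localization.localRingHom (q.comap φ) q φ rfl)
      (RingHom.ext fun x => (Localization.localRingHom_to_map (q.comap φ) q φ rfl x).symm) := by
  have h0 := (isLocalization_iff q.primeCompl (Localization.AtPrime q)).1 inferInstance
  have h1 := (isLocalization_iff (q.comap φ).primeCompl (Localization.AtPrime (q.comap φ))).1
    inferInstance
  refine isPushSq_of_isLocalization _ _ _ _ _ (q.comap φ).primeCompl ?_ ?_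
  · exact (@isLocalization_iff _ _ _ _ _ (algebraMap P (Localization.AtPrime (q.comap φ))).toAlgebra).2 h1
  · rw [Ideal.map_primeCompl_comap_of_surjective φ hφ q]
    exact (@isLocalization_iff _ _ _ _ _ (algebraMap A (Localization.AtPrime q)).toAlgebra).2 h0

end TorLocLib
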