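import Mathlib
import Groth.Agent.DRingLib.AmplitudeBC
import Groth.Prelude.Def_DDual2

/-!
# Restriction of scalars of complexes in the derived category
-/

set_option autoImplicit false
set_option linter.all false

universe u

open CategoryTheory
open Groth.Agent

attribute [local instance] HasDerivedCategory.standard

noncomputable section

namespace TorLocLib

variable {A B C : Type u} [CommRing A] [CommRing B] [CommRing C]

/-- Restriction in two steps on complexes. -/
def resCxCompIso (f : A →+* B) (g : B →+* C) (h : A →+* C) (hh : h = g.comp f)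
    (X : CochainComplex (ModuleCat.{u} C) ℤ) :
    (DRing.restrictCx h).obj X ≅ (DRing.restrictCx f).obj ((DRing.restrictCx g).obj X) :=
  HomologicalComplex.Hom.isoOfComponents (fun i => (ModuleCat.restrictScalarsComp' f g h hh).app (X.X i))
    (fun i j _ => ((ModuleCat.restrictScalarsComp' f g h hh).hom.naturality (X.d i j)).symm)

/-- Restriction of the image of a complex. -/
def restrictDQ (f : A →+* B) (X : CochainComplex (ModuleCat.{u} B) ℤ) :
    (DRing.restrictD f).obj (DerivedCategory.Q.obj X) ≅
      DerivedCategory.Q.obj ((DRing.restrictCx f).obj X) :=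
  (ModuleCat.restrictScalars.{u} f).mapDerivedCategoryFactors.app X

theorem flat_restrictScalars (f : A →+* B) (hf : f.Flat) (M : ModuleCat.{u} B) (hM : Module.Flat B M) :
    Module.Flat A ((ModuleCat.restrictScalars.{u} f).obj M) := by
  letI := f.toAlgebra
  haveI : Module.Flat A B := hf
  letI : Module A M := Module.compHom M f
  haveI : IsScalarTower A B M := IsScalarTower.of_algebraMap_smul fun _ _ => rfl
  exact Module.Flat.trans A B M

/-- Tor amplitude descends along flat restriction of scalars. -/
theorem hasTorAmplitudeIn_restrictD (f : A →+* B) (hf : f.Flat) {K : Dual.D B} {a b : ℤ}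
    (h : DRing.HasTorAmplitudeIn B a b K) :
    DRing.HasTorAmplitudeIn A a b ((DRing.restrictD f).obj K) := by
  obtain ⟨E, h₁, h₂, ⟨e⟩⟩ := h
  exact ⟨(DRing.restrictCx f).obj E,
    fun i hi => (ModuleCat.restrictScalars.{u} f).map_isZero (h₁ i hi),
    fun i => flat_restrictScalars f hf _ (h₂ i),
    ⟨(restrictDQ f E).symm ≪≫ (DRing.restrictD f).mapIso e⟩⟩

/-- Restriction in two steps on an image of a complex. -/
def restrictDCompQ (f : A →+* B) (g : B →+* C) (h : A →+* C) (hh : h = g.comp f)
    (X : CochainComplex (ModuleCat.{u} C) ℤ) :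
    (DRing.restrictD h).obj (DerivedCategory.Q.obj X) ≅
      (DRing.restrictD f).obj (DerivedCategory.Q.obj ((DRing.restrictCx g).obj X)) :=
  restrictDQ h X ≪≫ DerivedCategory.Q.mapIso (resCxCompIso f g h hh X) ≪≫
    (restrictDQ f ((DRing.restrictCx g).obj X)).symm

end TorLocLib
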