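import Groth.Agent.TorLocLib.Ring
import Groth.Agent.TwoTermLib.Fibre
import Groth.Agent.S7034

/-!
# Amplitude of a complex over a local ring of affine space from its fibre over the base
-/

set_option autoImplicit false
set_option linter.all false

universe u

open CategoryTheory CategoryTheory.Limits TensorProduct HomologicalComplex
open Groth.Agent

attribute [local instance] HasDerivedCategory.standard

noncomputable section

namespace TorLocLib

/-- `(B/IB) ⊗_B X ≅ X ⊗_A A/I`. -/
def quotTensorEquiv {A B : Type u} [CommRing A] [CommRing B] [Algebra A B] (I : Ideal A)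
    (X : Type u) [AddCommGroup X] [Module B X] [Module A X] [IsScalarTower A B X] :
    (B ⧸ I.map (algebraMap A B)) ⊗[B] X ≃+ X ⊗[A] (A ⧸ I) :=
  ((TensorProduct.comm B _ X).trans (TensorProduct.congr (LinearEquiv.refl B X)
    (Algebra.TensorProduct.quotIdealMapEquivTensorQuot B I).toLinearEquiv)).toAddEquiv.trans
      (TensorProduct.AlgebraTensorModule.cancelBaseChange A B B X (A ⧸ I)).toAddEquiv

theorem quotTensorEquiv_tmul {A B : Type u} [CommRing A] [CommRing B] [Algebra A B] (I : Ideal A)
    (X : Type u) [AddCommGroup X] [Module B X] [Module A X] [IsScalarTower A B X] (b : B) (x : X) :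
    quotTensorEquiv I X ((Ideal.Quotient.mk (I.map (algebraMap A B)) b) ⊗ₜ[B] x) =
      (b • x) ⊗ₜ[A] 1 := by
  simp [quotTensorEquiv]

theorem exact_quot_of_exact {A B : Type u} [CommRing A] [CommRing B] [Algebra A B] (I : Ideal A)
    {X Y Z : Type u} [AddCommGroup X] [Module B X] [Module A X] [IsScalarTower A B X]
    [AddCommGroup Y] [Module B Y] [Module A Y] [IsScalarTower A B Y]
    [AddCommGroup Z] [Module B Z] [Module A Z] [IsScalarTower A B Z]
    (f : X →ₗ[B] Y) (g : Y →ₗ[B] Z)
    (h : Function.Exact ((f.restrictScalars A).rTensor (A ⧸ I)) ((g.restrictScalars A).rTensor (A ⧸ I))) :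
    Function.Exact (f.baseChange (B ⧸ I.map (algebraMap A B))) (g.baseChange (B ⧸ I.map (algebraMap A B))) := by
  have key : ∀ {U V : Type u} [AddCommGroup U] [Module B U] [Module A U] [IsScalarTower A B U]
      [AddCommGroup V] [Module B V] [Module A V] [IsScalarTower A B V] (f : U →ₗ[B] V)
      (w : (B ⧸ I.map (algebraMap A B)) ⊗[B] U),
      (f.restrictScalars A).rTensor (A ⧸ I) (quotTensorEquiv I U w) =
        quotTensorEquiv I V (f.baseChange (B ⧸ I.map (algebraMap A B)) w) := by
    intro U V _ _ _ _ _ _ _ _ f w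
    induction w using TensorProduct.induction_on with
    | zero => simp
    | add x y hx hy => simp_all
    | tmul s m =>
      obtain ⟨b, rfl⟩ := Ideal.Quotient.mk_surjective s
      simp [quotTensorEquiv_tmul, LinearMap.baseChange_tmul]
  intro y
  constructor
  · intro hy
    have h1 := key g y
    rw [hy, map_zero] at h1
    obtain ⟨x, hx⟩ := (h _).1 h1
    obtain ⟨w, rfl⟩ := (quotTensorEquiv (B := B) I X).surjective x
    exact ⟨w, (quotTensorEquiv (B := B) I Y).injective ((key f w).symm.trans hx)⟩
  · rintro ⟨x, rfl⟩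
    refine (quotTensorEquiv (B := B) I Z).injective ?_
    rw [map_zero, ← key g, ← key f]
    exact (h _).2 ⟨_, rfl⟩

/-- Fibres in two steps. -/
theorem fibreExact_of_quot {B : Type u} [CommRing B] (I m : Ideal B)
    [Algebra (B ⧸ I) (B ⧸ m)] [IsScalarTower B (B ⧸ I) (B ⧸ m)]
    {X Y Z : Type u} [AddCommGroup X] [Module B X] [AddCommGroup Y] [Module B Y]
    [AddCommGroup Z] [Module B Z] (f : X →ₗ[B] Y) (g : Y →ₗ[B] Z)
    (h0 : Function.Exact ((f.baseChange (B ⧸ I)).rTensor (B ⧸ m)) ((g.baseChange (B ⧸ I)).rTensor (B ⧸ m))) :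
    Function.Exact (f.baseChange (B ⧸ m)) (g.baseChange (B ⧸ m)) := by
  let c : ∀ (X : Type u) [AddCommGroup X] [Module B X],
      TensorProduct (B ⧸ I) (TensorProduct B (B ⧸ I) X) (B ⧸ m) ≃+ TensorProduct B (B ⧸ m) X :=
    fun X _ _ => (TensorProduct.comm (B ⧸ I) _ _).toAddEquiv.trans
      (TensorProduct.AlgebraTensorModule.cancelBaseChange B (B ⧸ I) (B ⧸ I) (B ⧸ m) X).toAddEquiv
  refine Function.Exact.of_ladder_addEquiv_of_exact (e₁ := c _) (e₂ := c _) (e₃ := c _)
    (f₁₂ := ((f.baseChange (B ⧸ I)).rTensor (B ⧸ m)).toAddMonoidHom)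
    (f₂₃ := ((g.baseChange (B ⧸ I)).rTensor (B ⧸ m)).toAddMonoidHom)
    (g₁₂ := (f.baseChange (B ⧸ m)).toAddMonoidHom)
    (g₂₃ := (g.baseChange (B ⧸ m)).toAddMonoidHom) ?_ ?_ h0
  all_goals
    ext x
    induction x using TensorProduct.induction_on with
    | zero => simp
    | add x y hx hy => simp_all
    | tmul z w =>
      induction z using TensorProduct.induction_on with
      | zero => simp
      | add x y hx hy => simp_all [TensorProduct.add_tmul]
      | tmul b z => simp [c]

/-- Amplitude over a quotient gives exactness of the fibres. -/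
theorem fibreExact_of_amp_quot {B : Type u} [CommRing B] (I m : Ideal B) (hIm : I ≤ m) [m.IsMaximal]
    (F : CochainComplex (ModuleCat.{u} B) ℤ) {a c : ℤ}
    (hA : DRingLib.Amp a c ((DRingLib.extCx (Ideal.Quotient.mk I)).obj F)) (i : ℤ) (hi : i < a ∨ c < i) :
    ∃ (k : Type u) (_ : Field k) (_ : Algebra B k), Function.Surjective (algebraMap B k) ∧
      RingHom.ker (algebraMap B k) = m ∧ TwoTermLib.Fibre.FibreExact F k i := by
  letI : Field (B ⧸ m) := Ideal.Quotient.field m
  refine ⟨B ⧸ m, inferInstance, inferInstance, Ideal.Quotient.mk_surjective, Ideal.mk_ker, ?_⟩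
  letI : Algebra (B ⧸ I) (B ⧸ m) := (Ideal.Quotient.factor hIm).toAlgebra
  haveI : IsScalarTower B (B ⧸ I) (B ⧸ m) := IsScalarTower.of_algebraMap_eq fun _ => rfl
  have h0 := hA (ModuleCat.of (B ⧸ I) (B ⧸ m)) i hi
  rw [← exactAt_iff_isZero_homology, exactAt_iff' _ (i - 1) i (i + 1) (by simp) (by simp),
    CategoryTheory.ShortComplex.ShortExact.moduleCat_exact_iff_function_exact] at h0
  replace h0 : Function.Exact
      (((F.d (i - 1) i).hom.baseChange (B ⧸ I)).rTensor (B ⧸ m))
      (((F.d i (i + 1)).hom.baseChange (B ⧸ I)).rTensor (B ⧸ m)) := h0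
  exact fibreExact_of_quot I m _ _ h0

variable {R : Type u} [CommRing R] {d : ℕ} (Q : Ideal (MvPolynomial (Fin d) R)) [Q.IsPrime]
  (p : Ideal R) [p.IsPrime] (hp : p = Q.comap MvPolynomial.C)

/-- A complex of finite free modules over a local ring of affine space whose fibre is exact outside
`[a, b]` has amplitude in `[a - d, b]`. -/
theorem amp_of_fibre (F : CochainComplex (ModuleCat.{u} (Localization.AtPrime Q)) ℤ) {a b b' : ℤ}
    (hb : ∀ i, b' < i → IsZero (F.X i))
    (hF : ∀ i, Module.Finite (Localization.AtPrime Q) (F.X i) ∧ Module.Free (Localization.AtPrime Q) (F.X i))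
    (h : ∀ i, i < a ∨ b < i →
      letI : ∀ j, Module (Localization.AtPrime p) (F.X j) := fun j =>
        Module.compHom (F.X j) (Localization.localRingHom p Q MvPolynomial.C hp)
      letI := (Localization.localRingHom p Q MvPolynomial.C hp).toAlgebra
      haveI : ∀ j, IsScalarTower (Localization.AtPrime p) (Localization.AtPrime Q) (F.X j) := fun j =>
        IsScalarTower.of_algebraMap_smul fun _ _ => rfl
      Function.Exact
        (((F.d (i - 1) i).hom.restrictScalars (Localization.AtPrime p)).rTensor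
          (Localization.AtPrime p ⧸ IsLocalRing.maximalIdeal (Localization.AtPrime p)))
        (((F.d i (i + 1)).hom.restrictScalars (Localization.AtPrime p)).rTensor
          (Localization.AtPrime p ⧸ IsLocalRing.maximalIdeal (Localization.AtPrime p)))) :
    DRingLib.Amp (a - d) b F := by
  let χ := Localization.localRingHom p Q MvPolynomial.C hp
  let FS := (DRingLib.extCx (fibMk Q p hp)).obj F
  have hFS : DRing.IsKFlat (Fib Q p hp) FS :=
    DRingLib.isKFlat_of_free _ b'
      (fun i hi => (ModuleCat.extendScalars.{u, u, u} (fibMk Q p hp)).map_isZero (hb i hi))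
      fun i => DRingLib.free_extCx _ i (hF i).2
  haveI : ∀ M : ModuleCat.{u} (Fib Q p hp), DRing.HasLTensor (Fib Q p hp) M := fun M =>
    DRingLib.hasLeftDerived_of_kFlat fun _ _ α hP hQ hα =>
      haveI := hα
      DRingLib.quasiIso_tensorN α hP hQ M
  have hvan : ∀ i, i < a ∨ b < i →
      Subsingleton (Dual.HD (Fib Q p hp) (DerivedCategory.Q.obj FS) i) := by
    intro i hi
    refine ModuleCat.subsingleton_of_isZero (IsZero.of_iso ?_
      ((DerivedCategory.homologyFunctorFactors (ModuleCat.{u} (Fib Q p hp)) i).app FS))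
    show IsZero (FS.homology i)
    rw [← exactAt_iff_isZero_homology, exactAt_iff' _ (i - 1) i (i + 1) (by simp) (by simp),
      CategoryTheory.ShortComplex.ShortExact.moduleCat_exact_iff_function_exact]
    letI : ∀ j, Module (Localization.AtPrime p) (F.X j) := fun j => Module.compHom (F.X j) χ
    letI := χ.toAlgebra
    haveI : ∀ j, IsScalarTower (Localization.AtPrime p) (Localization.AtPrime Q) (F.X j) := fun j =>
      IsScalarTower.of_algebraMap_smul fun _ _ => rfl
    exact exact_quot_of_exact (IsLocalRing.maximalIdeal (Localization.AtPrime p))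
      (F.d (i - 1) i).hom (F.d i (i + 1)).hom (h i hi)
  have hA : DRingLib.Amp (a - d) b FS :=
    (DRingLib.hasTorAmplitudeIn_iff_amp hFS (Iso.refl _)).1
      ((Groth.Agent.S7034.result (Fib Q p hp) d (fun M _ _ => projDim_fib Q p hp M)).2 _ a b hvan)
  refine TwoTermLib.Fibre.amp_of_fibres hF fun m hm i hi => ?_
  haveI := hm
  have hIm : fibIdeal Q p hp ≤ m := by
    rw [IsLocalRing.eq_maximalIdeal hm]
    exact fibIdeal_le Q p hp
  exact fibreExact_of_amp_quot (fibIdeal Q p hp) m hIm F hA i hi

end TorLocLib
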