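import Mathlib
import Groth.Agent.S0563

/-!
# The fibre of a local ring of affine space
-/

set_option autoImplicit false
set_option linter.all false

universe u

open MvPolynomial CategoryTheory

noncomputable section

namespace TorLocLib

variable {R : Type u} [CommRing R] {d : ℕ} (Q : Ideal (MvPolynomial (Fin d) R)) [Q.IsPrime]
  (p : Ideal R) [p.IsPrime] (hp : p = Q.comap C)

/-- The extension of the maximal ideal of the base. -/
def fibIdeal : Ideal (Localization.AtPrime Q) :=
  (IsLocalRing.maximalIdeal (Localization.AtPrime p)).map (Localization.localRingHom p Q C hp)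

theorem fibIdeal_eq :
    fibIdeal Q p hp = (p.map C).map (algebraMap (MvPolynomial (Fin d) R) (Localization.AtPrime Q)) := by
  rw [fibIdeal, ← Localization.AtPrime.map_eq_maximalIdeal, Ideal.map_map, Ideal.map_map]
  congr 1
  exact RingHom.ext fun x => Localization.localRingHom_to_map p Q C hp x

theorem fibIdeal_le : fibIdeal Q p hp ≤ IsLocalRing.maximalIdeal (Localization.AtPrime Q) := by
  rw [fibIdeal_eq, ← Localization.AtPrime.map_eq_maximalIdeal]
  refine Ideal.map_mono ?_
  rw [hp]
  exact Ideal.map_comap_le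

/-- The fibre of the local ring. -/
def Fib : Type u := Localization.AtPrime Q ⧸ fibIdeal Q p hp

instance : CommRing (Fib Q p hp) := Ideal.Quotient.commRing (fibIdeal Q p hp)

/-- The quotient map to the fibre. -/
def fibMk : Localization.AtPrime Q →+* Fib Q p hp := Ideal.Quotient.mk (fibIdeal Q p hp)

theorem fibMk_surjective : Function.Surjective (fibMk Q p hp) := Ideal.Quotient.mk_surjective

theorem fibMk_eq_zero {x : Localization.AtPrime Q} :
    fibMk Q p hp x = 0 ↔ x ∈ fibIdeal Q p hp := Ideal.Quotient.eq_zero_iff_mem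

/-- The quotient map from polynomials to the fibre. -/
def toFib : MvPolynomial (Fin d) R →+* Fib Q p hp :=
  (fibMk Q p hp).comp
    (algebraMap (MvPolynomial (Fin d) R) (Localization.AtPrime Q))

theorem isUnit_toFib {a : MvPolynomial (Fin d) R} (ha : a ∉ Q) : IsUnit (toFib Q p hp a) :=
  (IsLocalization.map_units (M := Q.primeCompl) (Localization.AtPrime Q) ⟨a, ha⟩).map (fibMk Q p hp)

/-- The residue field maps to the fibre. -/
def resToFib : p.ResidueField →+* Fib Q p hp :=
  Ideal.ResidueField.lift p ((toFib Q p hp).comp C)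
    (fun r hr => by
      rw [RingHom.mem_ker]
      refine (fibMk_eq_zero Q p hp).2 ?_
      rw [fibIdeal_eq]
      exact Ideal.mem_map_of_mem _ (Ideal.mem_map_of_mem _ hr))
    (fun r hr => by
      refine isUnit_toFib Q p hp fun h => hr ?_
      rw [hp]
      exact h)

/-- Polynomials over the residue field map to the fibre. -/
def polyToFib : MvPolynomial (Fin d) p.ResidueField →+* Fib Q p hp :=
  eval₂Hom (resToFib Q p hp) fun i => toFib Q p hp (X i)

theorem polyToFib_map (a : MvPolynomial (Fin d) R) :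
    polyToFib Q p hp (MvPolynomial.map (algebraMap R p.ResidueField) a) = toFib Q p hp a := by
  refine RingHom.congr_fun (MvPolynomial.ringHom_ext (f := (polyToFib Q p hp).comp
    (MvPolynomial.map (algebraMap R p.ResidueField))) (g := toFib Q p hp) (fun r => ?_) (fun i => ?_)) a
  · simp [polyToFib, resToFib]
  · simp [polyToFib]

omit hp in
theorem exists_scale (u : MvPolynomial (Fin d) p.ResidueField) :
    ∃ c : R, c ∉ p ∧ ∃ a : MvPolynomial (Fin d) R,
      C (algebraMap R p.ResidueField c) * u = MvPolynomial.map (algebraMap R p.ResidueField) a := by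
  induction u using MvPolynomial.induction_on with
  | C x =>
    obtain ⟨⟨a, s⟩, hs⟩ := IsLocalization.surj (nonZeroDivisors (R ⧸ p)) x
    obtain ⟨a, rfl⟩ := Ideal.Quotient.mk_surjective a
    obtain ⟨s, hs0⟩ := s
    obtain ⟨s, rfl⟩ := Ideal.Quotient.mk_surjective s
    refine ⟨s, fun h => nonZeroDivisors.ne_zero hs0 (Ideal.Quotient.eq_zero_iff_mem.2 h), C a, ?_⟩
    simp only [Ideal.algebraMap_quotient_residueField_mk] at hs
    rw [map_C, ← map_mul, mul_comm, hs]
  | add u v hu hv =>
    obtain ⟨c, hc, a, ha⟩ := hu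
    obtain ⟨c', hc', a', ha'⟩ := hv
    refine ⟨c * c', fun h => ((‹p.IsPrime›.mem_or_mem h).elim hc hc'), C c' * a + C c * a', ?_⟩
    simp only [map_add, map_mul, map_C, ← ha, ← ha']
    ring
  | mul_X u i hu =>
    obtain ⟨c, hc, a, ha⟩ := hu
    refine ⟨c, hc, a * X i, ?_⟩
    rw [map_mul, map_X, ← ha, mul_assoc]

theorem nontrivial_fib : Nontrivial (Fib Q p hp) :=
  (Ideal.Quotient.nontrivial_iff (I := fibIdeal Q p hp)).2 fun h =>
    (IsLocalRing.maximalIdeal.isMaximal (Localization.AtPrime Q)).ne_top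
      (top_le_iff.1 (h ▸ fibIdeal_le Q p hp))

theorem isLocalRing_fib : IsLocalRing (Fib Q p hp) :=
  haveI := nontrivial_fib Q p hp
  IsLocalRing.of_surjective' (fibMk Q p hp) (fibMk_surjective Q p hp)

theorem exists_polyToFib_eq {x y : MvPolynomial (Fin d) p.ResidueField}
    (h : polyToFib Q p hp x = polyToFib Q p hp y) :
    ∃ c : MvPolynomial (Fin d) p.ResidueField, IsUnit (polyToFib Q p hp c) ∧ c * x = c * y := by
  obtain ⟨c, hc, a, ha⟩ := exists_scale p x
  obtain ⟨c', hc', b, hb⟩ := exists_scale p y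
  let ρ := MvPolynomial.map (σ := Fin d) (algebraMap R p.ResidueField)
  have hρC : ∀ r, ρ (C r) = C (algebraMap R p.ResidueField r) := fun r => map_C _ r
  have hz : toFib Q p hp (C c' * a - C c * b) = 0 := by
    rw [← polyToFib_map, map_sub, map_mul, map_mul, map_C, map_C, ← ha, ← hb, map_sub]
    simp only [map_mul, h]
    ring
  have hz' : algebraMap _ (Localization.AtPrime Q) (C c' * a - C c * b) ∈ fibIdeal Q p hp :=
    (fibMk_eq_zero Q p hp).1 hz
  rw [fibIdeal_eq, IsLocalization.mem_map_algebraMap_iff Q.primeCompl] at hz'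
  obtain ⟨⟨⟨i, hi⟩, ⟨s, hs⟩⟩, he⟩ := hz'
  rw [← map_mul] at he
  obtain ⟨⟨t, ht⟩, hte⟩ := IsLocalization.exists_of_eq (M := Q.primeCompl) he
  have hi0 : ρ i = 0 := by
    have : i ∈ RingHom.ker ρ := by
      rw [MvPolynomial.ker_map, Ideal.ker_algebraMap_residueField]
      exact hi
    exact this
  refine ⟨ρ t * ρ s * C (algebraMap R p.ResidueField c') * C (algebraMap R p.ResidueField c), ?_, ?_⟩
  · rw [map_mul, map_mul, map_mul, ← hρC, ← hρC, polyToFib_map, polyToFib_map, polyToFib_map,
      polyToFib_map]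
    refine ((((isUnit_toFib Q p hp ht).mul (isUnit_toFib Q p hp hs)).mul ?_).mul ?_)
    · exact isUnit_toFib Q p hp fun h' => hc' (by rw [hp]; exact h')
    · exact isUnit_toFib Q p hp fun h' => hc (by rw [hp]; exact h')
  · have h2 := congrArg ρ hte
    simp only [map_mul, map_sub, hρC, hi0, mul_zero] at h2
    linear_combination h2 + (ρ t * ρ s * C (algebraMap R p.ResidueField c')) * ha
      - (ρ t * ρ s * C (algebraMap R p.ResidueField c)) * hb

/-- The fibre is a regular local ring of dimension at most `d`. -/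
theorem exists_regular :
    ∃ (T : Type u) (_ : CommRing T) (_ : IsRegularLocalRing T),
      Nonempty (T ≃+* Fib Q p hp) ∧ ringKrullDim T ≤ (d : WithBot ℕ∞) := by
  haveI := isLocalRing_fib Q p hp
  letI : Algebra (MvPolynomial (Fin d) p.ResidueField) (Fib Q p hp) := (polyToFib Q p hp).toAlgebra
  let N : Ideal (MvPolynomial (Fin d) p.ResidueField) :=
    (IsLocalRing.maximalIdeal (Fib Q p hp)).comap (polyToFib Q p hp)
  haveI : N.IsPrime := Ideal.IsPrime.comap _
  have hN : ∀ x, x ∈ N.primeCompl ↔ IsUnit (polyToFib Q p hp x) := fun x =>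
    IsLocalRing.notMem_maximalIdeal
  haveI : IsLocalization.AtPrime (Fib Q p hp) N := by
    refine (isLocalization_iff _ _).2 ⟨fun y => (hN y).1 y.2, fun z => ?_, fun {x y} h => ?_⟩
    · obtain ⟨w, rfl⟩ := fibMk_surjective Q p hp z
      obtain ⟨⟨a, s⟩, he⟩ := IsLocalization.surj Q.primeCompl w
      refine ⟨(MvPolynomial.map (algebraMap R p.ResidueField) a,
        ⟨MvPolynomial.map (algebraMap R p.ResidueField) s, (hN _).2 ?_⟩), ?_⟩
      · rw [polyToFib_map]
        exact isUnit_toFib Q p hp s.2
      · show fibMk Q p hp w * polyToFib Q p hp (MvPolynomial.map (algebraMap R p.ResidueField) s.1) =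
          polyToFib Q p hp (MvPolynomial.map (algebraMap R p.ResidueField) a)
        rw [polyToFib_map, polyToFib_map]
        exact ((map_mul _ _ _).symm.trans (congrArg _ he))
    · obtain ⟨c, hc, hxy⟩ := exists_polyToFib_eq Q p hp h
      exact ⟨⟨c, (hN c).2 hc⟩, hxy⟩
  refine ⟨Localization.AtPrime N, inferInstance, IsRegularRing.isRegularLocalRing_localization N,
    ⟨(IsLocalization.algEquiv N.primeCompl (Localization.AtPrime N) (Fib Q p hp)).toRingEquiv⟩, ?_⟩
  rw [IsLocalization.AtPrime.ringKrullDim_eq_height N]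
  refine (Ideal.height_le_ringKrullDim_of_ne_top Ideal.IsPrime.ne_top').trans ?_
  rw [MvPolynomial.ringKrullDim_of_isNoetherianRing, ringKrullDim_eq_zero_of_field, zero_add]
  simp

/-- Global dimension transports along ring isomorphisms and is bounded on the fibre. -/
theorem projDim_fib (M : Type u) [AddCommGroup M] [Module (Fib Q p hp) M] :
    HasProjectiveDimensionLT (ModuleCat.of (Fib Q p hp) M) (d + 1) := by
  obtain ⟨T, _, hT, ⟨e⟩, hd⟩ := exists_regular Q p hp
  haveI : IsRegularLocalRing (Fib Q p hp) := IsRegularLocalRing.of_ringEquiv e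
  have hS := IsRegularLocalRing.spanFinrank_maximalIdeal (R := Fib Q p hp)
  have hle : (IsLocalRing.maximalIdeal (Fib Q p hp)).spanFinrank ≤ d := by
    rw [← ringKrullDim_eq_of_ringEquiv e.symm, ← hS] at hd
    exact_mod_cast hd
  haveI := Groth.Agent.S0563.result (Fib Q p hp) _ hS.symm M
  exact hasProjectiveDimensionLT_of_ge _ _ (d + 1) (Nat.succ_le_succ hle)

end TorLocLib
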